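import Cfsg.Agent.Spor.HNK.D0

set_option autoImplicit false
set_option maxRecDepth 100000000
set_option Elab.async false

namespace Cfsg.Agent.Spor.HNK

theorem w2 : PA.isW HNq.A HNq.TT [0, 3, 0, 3, 0, 3, 3, 0, 2, 2, 0, 2, 0, 2, 2, 0, 3, 3, 1, 3, 1, 3, 3] m1 = true := by decide +kernel

theorem w5 : PA.isW HNq.A HNq.TT [3, 0, 2, 2, 0, 2, 2, 0, 2, 2, 0, 2, 2, 0, 2, 0, 2, 1] m4 = true := by decide +kernel

theorem w8 : PA.isW HNq.A HNq.TT [2, 0, 3, 0, 3, 0, 2, 0, 2, 0, 3, 0, 3, 0, 2, 0] m7 = true := by decide +kernel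

theorem w11 : PA.isW HNq.A HNq.TT [2, 2, 4, 0, 2, 4, 0, 2, 2, 0, 2, 0, 3, 0, 3, 1, 5, 3, 3, 3, 1, 5, 3] m10 = true := by decide +kernel

theorem w14 : PA.isW HNq.A HNq.TT [0, 2, 4, 0, 2, 2, 2, 0, 2, 0, 2, 0, 3, 0, 3, 1, 3, 3, 3, 1, 5, 3, 1] m13 = true := by decide +kernel

theorem TKok : PA.gensOk HNq.A TK 5 = true := by decide +kernel

theorem w20 : PA.isW HNq.A TK [0, 0] HNq.m25 = true := by decide +kernel

theorem cKord : band (Nat.beq (PA.pw HNq.A HNq.m25 2) HNq.A.one) (PA.neq HNq.A HNq.m25 HNq.A.one) = true := by decide +kernel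

theorem cm21 : allN (fun j => Nat.beq (PA.mul HNq.A (nth HNq.A.one TK (2 * j)) HNq.m25) (PA.mul HNq.A HNq.m25 (nth HNq.A.one TK (2 * j)))) 5 = true := by decide +kernel

theorem ne22 : PA.neq HNq.A (PA.evw HNq.A TK [0, 2, 1, 3] HNq.A.one) HNq.A.one = true := by decide +kernel

theorem r23 : memL cKZL (PA.evw HNq.A TK [0, 0] HNq.A.one) = true := by decide +kernel

theorem r24 : memL cKZL (PA.evw HNq.A TK [2, 2] HNq.A.one) = true := by decide +kernel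

theorem r25 : memL cKZL (PA.evw HNq.A TK [4, 4] HNq.A.one) = true := by decide +kernel

theorem r26 : memL cKZL (PA.evw HNq.A TK [6, 6] HNq.A.one) = true := by decide +kernel

theorem r27 : memL cKZL (PA.evw HNq.A TK [8, 8] HNq.A.one) = true := by decide +kernel

theorem r28 : memL cKZL (PA.evw HNq.A TK [4, 0, 4, 0] HNq.A.one) = true := by decide +kernel

theorem r29 : memL cKZL (PA.evw HNq.A TK [2, 0, 2, 0, 2, 0, 2, 0] HNq.A.one) = true := by decide +kernel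

theorem r30 : memL cKZL (PA.evw HNq.A TK [2, 4, 2, 4, 2, 0, 2, 4, 2, 4, 2, 4, 0, 2, 4, 2, 4, 2, 0, 2, 4, 2, 4, 2, 0] HNq.A.one) = true := by decide +kernel

theorem r31 : memL cKZL (PA.evw HNq.A TK [4, 2, 0, 2, 4, 2, 0, 2, 4, 2, 0, 2, 4, 2, 0, 2, 4, 2, 0, 2, 0] HNq.A.one) = true := by decide +kernel

theorem r32 : memL cKZL (PA.evw HNq.A TK [6, 4, 6, 4] HNq.A.one) = true := by decide +kernel

theorem r33 : memL cKZL (PA.evw HNq.A TK [6, 2, 6, 2, 6, 2] HNq.A.one) = true := by decide +kernel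

theorem r34 : memL cKZL (PA.evw HNq.A TK [0, 2, 0, 2, 6, 2, 0, 2, 0, 6] HNq.A.one) = true := by decide +kernel

theorem r35 : memL cKZL (PA.evw HNq.A TK [6, 2, 4, 2, 6, 4, 2, 6, 4, 2, 4, 2] HNq.A.one) = true := by decide +kernel

theorem r36 : memL cKZL (PA.evw HNq.A TK [0, 6, 0, 6, 0, 6, 0, 6, 0, 6] HNq.A.one) = true := by decide +kernel

theorem r37 : memL cKZL (PA.evw HNq.A TK [8, 4, 8, 4] HNq.A.one) = true := by decide +kernel

theorem r38 : memL cKZL (PA.evw HNq.A TK [8, 0, 8, 0] HNq.A.one) = true := by decide +kernel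

theorem r39 : memL cKZL (PA.evw HNq.A TK [8, 2, 8, 2] HNq.A.one) = true := by decide +kernel

theorem r40 : memL cKZL (PA.evw HNq.A TK [0, 2, 6, 0, 2, 6, 2, 0, 8, 6, 0, 2, 6, 8, 2, 0, 6, 2, 0, 6, 8] HNq.A.one) = true := by decide +kernel

theorem r41 : memL cKZL (PA.evw HNq.A TK [8, 6, 8, 6, 8, 6] HNq.A.one) = true := by decide +kernel

theorem dd : Nat.beq (PA.mul HNq.A (nth HNq.A.one TK (2 * 0)) (nth HNq.A.one TK (2 * 0))) HNq.m25 = true := by decide +kernel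

end Cfsg.Agent.Spor.HNK
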