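import Cfsg.Agent.Spor.PX4
import Cfsg.Agent.Spor.HNq.Main
import Cfsg.Agent.Spor.HSC
import Cfsg.Agent.Spor.HNK.C0

set_option autoImplicit false
set_option maxRecDepth 100000000
set_option Elab.async false

namespace Cfsg.Agent.Spor.HNK

theorem hM3 : HNq.X.M m1 := (HNq.gens.isW w2).1
theorem hM6 : HNq.X.M m4 := (HNq.gens.isW w5).1
theorem hM9 : HNq.X.M m7 := (HNq.gens.isW w8).1
theorem hM12 : HNq.X.M m10 := (HNq.gens.isW w11).1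
theorem hM15 : HNq.X.M m13 := (HNq.gens.isW w14).1
theorem gTK : HNq.X.Gens TK (atm 5 (HNq.X.gen TK)) :=
  MRep.Gens.of_M TKok (MRep.allM (L := [m1, m4, m7, m10, m13]) (AllP.cons hM3 (AllP.cons hM6 (AllP.cons hM9 (AllP.cons hM12 (AllP.cons hM15 (AllP.nil)))))) rfl)
theorem memTK : ∀ j < 5, HNq.X.gen TK j ∈ gsub 5 (HNq.X.gen TK) :=
  gTK.mem_defs (DR := []) (show AllP (fun w => PA.isW HNq.A TK w HNq.A.one = true) [] from AllP.nil) (by decide +kernel)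
theorem cK : CExt (gsub 5 (HNq.X.gen TK)) (HNq.X.el HNq.m25) 2 HSpa.P :=
  gTK.cext HSpa.bound (by norm_num) HSpa.cert.pres HSpa.lbP HSpa.simpleP memTK (by norm_num) w20 cKord
    (ZL := cKZL) (by decide +kernel) cm21 (RL0 := [[0, 0], [2, 2], [4, 4], [6, 6], [8, 8], [4, 0, 4, 0], [2, 0, 2, 0, 2, 0, 2, 0], [2, 4, 2, 4, 2, 0, 2, 4, 2, 4, 2, 4, 0, 2, 4, 2, 4, 2, 0, 2, 4, 2, 4, 2, 0], [4, 2, 0, 2, 4, 2, 0, 2, 4, 2, 0, 2, 4, 2, 0, 2, 4, 2, 0, 2, 0], [6, 4, 6, 4], [6, 2, 6, 2, 6, 2], [0, 2, 0, 2, 6, 2, 0, 2, 0, 6], [6, 2, 4, 2, 6, 4, 2, 6, 4, 2, 4, 2], [0, 6, 0, 6, 0, 6, 0, 6, 0, 6], [8, 4, 8, 4], [8, 0, 8, 0], [8, 2, 8, 2], [0, 2, 6, 0, 2, 6, 2, 0, 8, 6, 0, 2, 6, 8, 2, 0, 6, 2, 0, 6, 8], [8, 6, 8, 6, 8, 6]])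
    (WD := [[0], [2], [4], [6], [8]]) (H := [([], 5, true), ([], 6, true), ([], 7, true), ([], 8, true), ([], 9, true), ([], 10, true), ([], 11, true), ([], 12, true), ([], 13, true), ([], 14, true), ([], 15, true), ([], 16, true), ([], 17, true), ([], 18, true)])
    (show AllP (fun w => memL cKZL (PA.evw HNq.A TK w HNq.A.one) = true) [[0, 0], [2, 2], [4, 4], [6, 6], [8, 8], [4, 0, 4, 0], [2, 0, 2, 0, 2, 0, 2, 0], [2, 4, 2, 4, 2, 0, 2, 4, 2, 4, 2, 4, 0, 2, 4, 2, 4, 2, 0, 2, 4, 2, 4, 2, 0], [4, 2, 0, 2, 4, 2, 0, 2, 4, 2, 0, 2, 4, 2, 0, 2, 4, 2, 0, 2, 0], [6, 4, 6, 4], [6, 2, 6, 2, 6, 2], [0, 2, 0, 2, 6, 2, 0, 2, 0, 6], [6, 2, 4, 2, 6, 4, 2, 6, 4, 2, 4, 2], [0, 6, 0, 6, 0, 6, 0, 6, 0, 6], [8, 4, 8, 4], [8, 0, 8, 0], [8, 2, 8, 2], [0, 2, 6, 0, 2, 6, 2, 0, 8, 6, 0, 2, 6, 8, 2, 0, 6, 2, 0, 6, 8], [8, 6, 8, 6, 8, 6]] from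 AllP.cons r23 (AllP.cons r24 (AllP.cons r25 (AllP.cons r26 (AllP.cons r27 (AllP.cons r28 (AllP.cons r29 (AllP.cons r30 (AllP.cons r31 (AllP.cons r32 (AllP.cons r33 (AllP.cons r34 (AllP.cons r35 (AllP.cons r36 (AllP.cons r37 (AllP.cons r38 (AllP.cons r39 (AllP.cons r40 (AllP.cons r41 (AllP.nil)))))))))))))))))))) (by decide +kernel) (x := 0) (y := 2) (by decide) ne22
theorem nonsplit : Cfsg.IsNonsplitDoubleCover (gsub 5 (HNq.X.gen TK)) Cfsg.Spor.HS :=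
  cK.nonsplit (mem_gsub _ (show 0 < 5 by norm_num))
    (((gTK 0).1.el_mul (gTK 0).1).symm.trans (congrArg _ (Nat.beq_eq.mp dd))) HSC.iso
theorem index : (gsub 5 (HNq.X.gen TK)).index = 2 :=
  index_of_card (M := 2 * 44352000) HNP.cardP (cK.card.trans (by rw [HSpa.cardP])) (by norm_num)

end Cfsg.Agent.Spor.HNK
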